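import Groth.Prelude.Def_LambdaRing
import Mathlib.Algebra.BigOperators.NatAntidiagonal
import Mathlib.Tactic.LinearCombination

/-!
# The recursion behind the excess intersection formula and the self-intersection formula

`s` plays the role of the classes of symmetric powers of `c₁` (Koszul relation), `u p n` of the homology classes.
-/

set_option autoImplicit false
universe v

open Finset PowerSeries LambdaRing

namespace Groth.Agent.Krr.H472.ExcRec

section Rec

variable {R : Type v} [CommRing R]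

/-- The recursion solved: `u_p(n) = Σ_{j ≤ p} (-1)^j s_{n+j} w_{p-j}`. -/
theorem u_eq (s w : ℕ → R) (u : ℕ → ℕ → R) (h0 : ∀ n, u 0 n = s n * w 0)
    (h : ∀ p n, u (p + 1) n + u p (n + 1) = s n * w (p + 1)) (p : ℕ) :
    ∀ n, u p n = ∑ j ∈ range (p + 1), (-1 : R) ^ j * (s (n + j) * w (p - j)) := by
  induction p with
  | zero => intro n; simp [h0]
  | succ p ih =>
    intro n
    rw [eq_sub_of_add_eq (h p n), ih (n + 1), sum_range_succ' _ (p + 1)]
    simp only [pow_zero, one_mul, add_zero, Nat.sub_zero]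
    rw [sub_eq_add_neg, ← sum_neg_distrib, add_comm]
    congr 1
    refine sum_congr rfl fun j hj => ?_
    rw [Nat.add_sub_add_right, pow_succ, show n + (j + 1) = n + 1 + j by ring]
    ring

/-- The generating series of `u_p(0)`. -/
theorem mk_u_eq (s w : ℕ → R) (u : ℕ → ℕ → R) (h0 : ∀ n, u 0 n = s n * w 0)
    (h : ∀ p n, u (p + 1) n + u p (n + 1) = s n * w (p + 1)) :
    PowerSeries.mk (fun p => u p 0) = PowerSeries.mk (fun j => (-1 : R) ^ j * s j) * PowerSeries.mk w := by
  ext p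
  rw [PowerSeries.coeff_mul, Finset.Nat.sum_antidiagonal_eq_sum_range_succ_mk, coeff_mk, u_eq s w u h0 h]
  refine sum_congr rfl fun j _ => ?_
  simp only [coeff_mk, zero_add]
  ring

end Rec

variable {K : Type v} [CommRing K] [LambdaOps K]

theorem lamSeries_add (x y : K) : lamSeries (x + y) = lamSeries x * lamSeries y := by
  ext p
  rw [PowerSeries.coeff_mul, Finset.Nat.sum_antidiagonal_eq_sum_range_succ_mk]
  simp only [lamSeries, coeff_mk]
  exact LambdaOps.lam_add p x y

/-- The signed series of `s` is inverse to `λ_t(c₁)`. -/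
theorem sign_mul_lamSeries (c1 : K) (s : ℕ → K) (hs0 : s 0 = 1)
    (hs : ∀ p, 1 ≤ p → ∑ j ∈ range (p + 1), (-1 : K) ^ j * (LambdaOps.lam (p - j) c1 * s j) = 0) :
    PowerSeries.mk (fun j => (-1 : K) ^ j * s j) * lamSeries c1 = 1 := by
  ext p
  rw [PowerSeries.coeff_mul, Finset.Nat.sum_antidiagonal_eq_sum_range_succ_mk, PowerSeries.coeff_one]
  have h1 : ∑ k ∈ range p.succ, coeff (k, p - k).1 (PowerSeries.mk fun j => (-1 : K) ^ j * s j) *
      coeff (k, p - k).2 (lamSeries c1) =
      ∑ j ∈ range (p + 1), (-1 : K) ^ j * (LambdaOps.lam (p - j) c1 * s j) := by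
    refine sum_congr rfl fun j _ => ?_
    simp only [lamSeries, coeff_mk]
    ring
  rw [h1]
  split_ifs with hp
  · subst hp
    simp [hs0, LambdaOps.lam_zero]
  · exact hs p (by omega)

/-- **Excess intersection**: if `w_p = x λ^p(c)` then `u_p(0) = x λ^p(c - c₁)`. -/
theorem u_zero_eq (c c1 x : K) (s w : ℕ → K) (u : ℕ → ℕ → K) (hs0 : s 0 = 1)
    (hs : ∀ p, 1 ≤ p → ∑ j ∈ range (p + 1), (-1 : K) ^ j * (LambdaOps.lam (p - j) c1 * s j) = 0)
    (h0 : ∀ n, u 0 n = s n * w 0) (h : ∀ p n, u (p + 1) n + u p (n + 1) = s n * w (p + 1))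
    (hw : ∀ p, w p = x * LambdaOps.lam p c) (p : ℕ) : u p 0 = x * LambdaOps.lam p (c - c1) := by
  have h1 := mk_u_eq s w u h0 h
  have h2 : PowerSeries.mk w = PowerSeries.C x * lamSeries c := by
    ext p
    rw [PowerSeries.coeff_C_mul, coeff_mk, hw]
    simp [lamSeries]
  have h3 := lamSeries_add (c - c1) c1
  rw [sub_add_cancel] at h3
  have h4 : PowerSeries.mk (fun p => u p 0) = PowerSeries.C x * lamSeries (c - c1) := by
    rw [h1, h2, h3]
    linear_combination (PowerSeries.C x * lamSeries (c - c1)) * sign_mul_lamSeries c1 s hs0 hs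
  have h5 := congrArg (coeff p) h4
  rw [PowerSeries.coeff_C_mul, coeff_mk] at h5
  simpa [lamSeries] using h5

/-- **Self-intersection**: if `u_{p+1}(0) = 0` then `w_p = x λ^p(c₁)`. -/
theorem w_eq (c1 x : K) (s w : ℕ → K) (u : ℕ → ℕ → K) (hs0 : s 0 = 1)
    (hs : ∀ p, 1 ≤ p → ∑ j ∈ range (p + 1), (-1 : K) ^ j * (LambdaOps.lam (p - j) c1 * s j) = 0)
    (h0 : ∀ n, u 0 n = s n * x) (h : ∀ p n, u (p + 1) n + u p (n + 1) = s n * w (p + 1))
    (hu : ∀ p, u (p + 1) 0 = 0) (hw : w 0 = x) (p : ℕ) : w p = x * LambdaOps.lam p c1 := by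
  have h1 := mk_u_eq s w u (by rw [hw]; exact h0) h
  have h2 : PowerSeries.mk (fun p => u p 0) = PowerSeries.C x := by
    ext p
    rw [PowerSeries.coeff_C, coeff_mk]
    split_ifs with hp
    · subst hp
      rw [h0, hs0, one_mul]
    · obtain ⟨q, rfl⟩ : ∃ q, p = q + 1 := ⟨p - 1, by omega⟩
      exact hu q
  have h4 : PowerSeries.mk w = PowerSeries.C x * lamSeries c1 := by
    rw [← h2, h1]
    linear_combination (-PowerSeries.mk w) * sign_mul_lamSeries c1 s hs0 hs
  have h5 := congrArg (coeff p) h4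
  rw [PowerSeries.coeff_C_mul, coeff_mk] at h5
  simpa [lamSeries] using h5

end Groth.Agent.Krr.H472.ExcRec
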