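import Groth.Prelude.Def_KRR
import Groth.Agent.Sga67.SymKoszul
import Groth.Agent.Sga67.SymPow
import Groth.Agent.Ega3B.PullTensor
import Groth.Agent.Krr.H495.ExtExist

/-!
# The Koszul relation in K₀, in all degrees
-/

set_option autoImplicit false
universe v u

open CategoryTheory CategoryTheory.Limits AlgebraicGeometry Opposite TopologicalSpace
open scoped TensorProduct

namespace Groth.Agent.Krr.H472.KoszulRel

open Groth.Agent.Sga67 Groth.Agent.Sga67.Sec Groth.Agent.Sga67.LocBasis Groth.Agent.Sga67.ExtSheaf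
  Groth.Agent.Sga67.SymData Groth.Agent.Sga67.SymKoszul Groth.Agent.Sga67.KvbRing

variable {Y : Scheme.{u}}

/-- `∑ j, (-1)^j [Λ^{p-j} N ⊗ S j] = 0` for all `p ≥ 1` (also beyond the rank of `N`). -/
theorem relation_all (c : ℕ) (N : Y.Modules) (S : ℕ → Y.Modules) (μ : ∀ n, CohB1.tensorMod N (S n) ⟶ S (n + 1))
    (h : IsSymData c N S μ) (L : ℕ → Y.Modules) (hL : ∀ p, ExtPow.IsExtPow p N (L p)) (p : ℕ) (hp : 1 ≤ p) :
    ∑ j ∈ Finset.range (p + 1), (-1 : ℤ) ^ j • KvbRing.c (CohB1.tensorMod (L (p - j)) (S j)) = 0 := by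
  have hN : FlatMod.IsFinLocFree N := by
    apply isFinLocFree_of_exists
    intro x
    obtain ⟨V, hxV, e, b, he, hb, -⟩ := h.loc x
    exact ⟨V, Fin c, inferInstance, e, hxV, he⟩
  have hS : ∀ m, FlatMod.IsFinLocFree (S m) := by
    intro m
    rw [isFinLocFree_iff]
    intro x
    obtain ⟨V, hxV, e, b, he, hb, -⟩ := h.loc x
    exact ⟨V, Fintype.card (Sym (Fin c) m), hxV, _, (hb m).reindex (Fintype.equivFin _).symm⟩
  have hLv : ∀ a, FlatMod.IsFinLocFree (L a) := fun a => isFinLocFree_of_isExtPow hN (hL a)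
  have hT : ∀ a m, FlatMod.IsFinLocFree (CohB1.tensorMod (L a) (S m)) := fun a m =>
    isFinLocFree_tensorMod (hLv a) (hS m)
  choose φ hφ using fun a => exists_phi (hL a)
  choose d hd using fun a m =>
    exists_del (μ m) (φ (a + 1)) (hφ (a + 1)) (φ a) (hφ a)
  have hdd : ∀ a m, d (a + 1) m ≫ d a (m + 1) = 0 := fun a m =>
    del_del h _ _ _ (hd (a + 1) m) (hd a (m + 1))
  have hex : ∀ a m, (ShortComplex.mk _ _ (hdd a m)).Exact := fun a m =>
    SymKoszul.exact h _ (hφ _) _ (hφ _) _ (hφ _) (hd (a + 1) m) (hd a (m + 1)) _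
  have hepi : ∀ m, Epi (d 0 m) := fun m => SymKoszul.epi h _ (hφ _) _ (hφ _) (hd 0 m)
  have hmono : ∀ a, Mono (d a 0) := fun a => SymKoszul.mono h _ (hφ _) _ (hφ _) (hd a 0)
  -- kernels are finite locally free
  have hK : ∀ a m, FlatMod.IsFinLocFree (kernel (d a m)) := by
    intro a
    induction a with
    | zero =>
      intro m
      have := hepi m
      exact Groth.Agent.Dcoh.Spread.isFinLocFree_kernel _ (hT _ m) (hT _ _)
    | succ a ih =>
      intro m
      have hses := shortExact_kernel _ _ (hdd a m) (hex a m)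
      have := hses.epi_g
      exact Groth.Agent.Dcoh.Spread.isFinLocFree_of_isLimit_kernelFork (hT _ m) (ih (m + 1)) _ _ _
        hses.fIsKernel
  let z : ℕ → ℕ → SGA6.Kvb Y := fun a m => match a with
    | 0 => KvbRing.c (CohB1.tensorMod (L 0) (S m))
    | a + 1 => KvbRing.c (kernel (d a m))
  have key := tele z (fun a m => KvbRing.c (CohB1.tensorMod (L a) (S m))) p (fun m => rfl) (by
    intro a m _
    rcases a with _ | a
    · have := hepi m
      exact c_ses (shortExact_epi (d 0 m)) (hK 0 m) (hT _ m) (hT _ _)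
    · exact c_ses (shortExact_kernel _ _ (hdd a m) (hex a m)) (hK _ m) (hT _ m) (hK a _)) p 0 le_rfl
  simp only [Nat.zero_add] at key
  rw [key]
  obtain ⟨a, rfl⟩ : ∃ a, p = a + 1 := ⟨p - 1, by omega⟩
  have := hmono a
  have h0 : IsZero (kernel (d a 0)) := isZero_kernel_of_mono _
  exact Groth.Agent.Sga67.SesImage.clSub_zero _ h0

theorem isFinLocFree_of_symData {c : ℕ} {N : Y.Modules} {S : ℕ → Y.Modules}
    {μ : ∀ n, CohB1.tensorMod N (S n) ⟶ S (n + 1)} (h : IsSymData c N S μ) (n : ℕ) :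
    FlatMod.IsFinLocFree (S n) := by
  classical
  rw [isFinLocFree_iff]
  intro y
  obtain ⟨V, hy, e, b, -, hb, -⟩ := h.loc y
  exact ⟨V, Fintype.card (Sym (Fin c) n), hy, _, (hb n).reindex (Fintype.equivFin _).symm⟩

section Model

variable {X : Scheme.{u}} (i : Y ⟶ X) (hi : Mor2.IsRegularClosedImmersion i) [IsClosedImmersion i] (c : ℕ)
  (hN : FlatMod.IsFinLocFreeOfRank c (Omega.conormal i))

include hi hN in
/-- `Jⁿ/Jⁿ⁺¹` is finite locally free. -/
theorem isFinLocFree_S (n : ℕ) : FlatMod.IsFinLocFree (IdealPow.S i n) := by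
  obtain ⟨μ, hμ⟩ := SymPow.exists_symData i hi c hN
  exact isFinLocFree_of_symData hμ n

include hN in
theorem isFinLocFree_conormal : FlatMod.IsFinLocFree (Omega.conormal i) := fun y => by
  obtain ⟨U, hy, h⟩ := hN y
  exact ⟨U, c, hy, h⟩

include hi hN in
/-- The Koszul relation between the exterior powers of the conormal module and `Jⁿ/Jⁿ⁺¹`. -/
theorem relation_conormal (L : ℕ → Y.Modules) (hL : ∀ p, ExtPow.IsExtPow p (Omega.conormal i) (L p)) (p : ℕ)
    (hp : 1 ≤ p) :
    ∑ j ∈ Finset.range (p + 1), (-1 : ℤ) ^ j •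
      KvbRing.c (CohB1.tensorMod (L (p - j)) (IdealPow.S i j)) = 0 := by
  obtain ⟨μ, hμ⟩ := SymPow.exists_symData i hi c hN
  exact relation_all c (Omega.conormal i) (IdealPow.S i) μ hμ L hL p hp

variable {KY : Type v} [CommRing KY] [LambdaRing.LambdaOps KY] {PY : LambdaRing.PosStructure KY}
  {φY : SGA6.Kvb Y →+ KY} (hKY : KRR.IsModel Y KY PY φY)

include hKY in
theorem model_S_zero : φY (KRR.cl Y (IdealPow.S i 0)) = 1 := by
  obtain ⟨e⟩ : Nonempty (IdealPow.S i 0 ≅ Coh.structureModule Y) :=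
    Groth.Agent.Ega3B.PullTensor.nonempty_pullUnitIso i
  have h := KvbRing.c_iso e.symm TensorOps.isFinLocFree_structureModule
  rw [← hKY.map_one]
  exact congrArg φY h.symm

include hi hN hKY in
/-- The Koszul relation on a model. -/
theorem model_relation (p : ℕ) (hp : 1 ≤ p) :
    ∑ j ∈ Finset.range (p + 1), (-1 : KY) ^ j *
      (LambdaRing.LambdaOps.lam (p - j) (φY (KRR.cl Y (Omega.conormal i))) *
        φY (KRR.cl Y (IdealPow.S i j))) = 0 := by
  have hC := isFinLocFree_conormal i c hN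
  choose L hLf hL using fun p => Groth.Agent.Krr.H495.ExtExist.exists_isExtPow p (Omega.conormal i) hC
  have h := congrArg φY (relation_conormal i hi c hN L hL p hp)
  rw [map_sum, map_zero] at h
  rw [← h]
  refine Finset.sum_congr rfl fun j _ => ?_
  rw [map_zsmul, zsmul_eq_mul, hKY.map_lam (p - j) _ _ hC (hLf _) (hL _)]
  push_cast
  congr 1
  exact hKY.map_mul _ _ (hLf _) (isFinLocFree_S i hi c hN j)

end Model

end Groth.Agent.Krr.H472.KoszulRel
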