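import Groth.Prelude.Def_LambdaRing
import Mathlib.Algebra.Polynomial.Div
import Mathlib.Algebra.Ring.GeomSum
import Mathlib.Tactic.LinearCombination

/-!
# Algebra of `K[ℓ]/(p_c)`

`R → K` a ring map, `K` free over `R` on `1, ℓ, …, ℓ^{d-1}`, with the relation
`Σ_{i ≤ d} (-1)^i a_i ℓ^{d-i} = 0`, `a_0 = 1`.  With `a_i = λ^i(c)` the element
`G = Σ_{i < d} (-1)^i λ^i(c - ℓ)` satisfies `(1 - ℓ) G = Σ_{i ≤ d} (-1)^i λ^i(c)`; it generates the annihilator-like
set `{z | (1 - ℓ) z ∈ R}` over `R`, and `x G = 0` implies `x = 0` for `x` in `R`.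
-/

set_option autoImplicit false
universe v w

open Polynomial Finset LambdaRing

namespace Groth.Agent.Krr.H472.Alg

section Poly

variable {R : Type v} {K : Type w} [CommRing R] [CommRing K]

/-- The polynomial `p(T) = Σ_{i ≤ d} (-1)^i a_i T^{d-i}`. -/
noncomputable def pp (a : ℕ → R) (d : ℕ) : R[X] :=
  ∑ i ∈ range (d + 1), C ((-1 : R) ^ i * a i) * X ^ (d - i)

/-- The polynomial `g = (p - p(1))/(T - 1)`. -/
noncomputable def gg (a : ℕ → R) (d : ℕ) : R[X] :=
  ∑ i ∈ range d, C ((-1 : R) ^ i * a i) * ∑ j ∈ range (d - i), X ^ j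

/-- The value `p(1)`. -/
noncomputable def pone (a : ℕ → R) (d : ℕ) : R := ∑ i ∈ range (d + 1), (-1 : R) ^ i * a i

theorem gg_mul (a : ℕ → R) (d : ℕ) : gg a d * (X - 1) = pp a d - C (pone a d) := by
  unfold gg pp pone
  rw [sum_range_succ, sum_range_succ (n := d) (f := fun i => (-1 : R) ^ i * a i)]
  simp only [Nat.sub_self, pow_zero, mul_one, C_add]
  rw [add_sub_add_right_eq_sub, map_sum, ← sum_sub_distrib, sum_mul]
  refine sum_congr rfl fun i _ => ?_
  rw [mul_assoc, geom_sum_mul, mul_sub, mul_one]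

theorem coeff_gg_top (a : ℕ → R) (ha : a 0 = 1) (d : ℕ) (hd : 1 ≤ d) : (gg a d).coeff (d - 1) = 1 := by
  unfold gg
  rw [finsetSum_coeff, Finset.sum_eq_single 0]
  · rw [coeff_C_mul, finsetSum_coeff, Finset.sum_eq_single (d - 1)]
    · simp [ha]
    · intro j _ hj
      rw [coeff_X_pow, if_neg (Ne.symm hj)]
    · intro h
      exact absurd (mem_range.2 (by omega)) h
  · intro i hi hi0
    rw [coeff_C_mul, finsetSum_coeff, Finset.sum_eq_zero, mul_zero]
    intro j hj
    rw [mem_range] at hi hj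
    rw [coeff_X_pow, if_neg (by omega)]
  · intro h
    exact absurd (mem_range.2 hd) h

theorem natDegree_gg_lt (a : ℕ → R) (d : ℕ) (hd : 1 ≤ d) : (gg a d).natDegree < d := by
  have : (gg a d).natDegree ≤ d - 1 := by
    unfold gg
    refine natDegree_sum_le_of_forall_le _ _ fun i _ => ?_
    refine (natDegree_C_mul_le _ _).trans ?_
    refine natDegree_sum_le_of_forall_le _ _ fun j hj => ?_
    rw [mem_range] at hj
    exact (natDegree_X_pow_le j).trans (by omega)
  omega

theorem coeff_pp_top (a : ℕ → R) (ha : a 0 = 1) (d : ℕ) : (pp a d).coeff d = 1 := by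
  unfold pp
  rw [finsetSum_coeff, Finset.sum_eq_single 0]
  · simp [ha]
  · intro i hi hi0
    rw [mem_range] at hi
    rw [coeff_C_mul, coeff_X_pow, if_neg (by omega), mul_zero]
  · intro h
    exact absurd (mem_range.2 (by omega)) h

theorem natDegree_pp_le (a : ℕ → R) (d : ℕ) : (pp a d).natDegree ≤ d := by
  unfold pp
  refine natDegree_sum_le_of_forall_le _ _ fun i _ => ?_
  refine (natDegree_C_mul_le _ _).trans ?_
  exact (natDegree_X_pow_le _).trans (by omega)

theorem monic_pp (a : ℕ → R) (ha : a 0 = 1) (d : ℕ) : (pp a d).Monic :=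
  monic_of_natDegree_le_of_coeff_eq_one d (natDegree_pp_le a d) (coeff_pp_top a ha d)

theorem eval_one_pp (a : ℕ → R) (d : ℕ) : (pp a d).eval 1 = pone a d := by
  unfold pp pone
  simp [eval_finsetSum]

variable (ψ : R →+* K) (l : K)

theorem eval₂_pp (a : ℕ → R) (d : ℕ) : (pp a d).eval₂ ψ l =
    ∑ i ∈ range (d + 1), (-1 : K) ^ i * ψ (a i) * l ^ (d - i) := by
  unfold pp
  rw [eval₂_finsetSum]
  refine sum_congr rfl fun i _ => ?_
  rw [eval₂_mul, eval₂_C, eval₂_pow, eval₂_X, map_mul, map_pow, map_neg, map_one]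

theorem eval₂_gg (a : ℕ → R) (d : ℕ) : (gg a d).eval₂ ψ l =
    ∑ i ∈ range d, (-1 : K) ^ i * ψ (a i) * ∑ j ∈ range (d - i), l ^ j := by
  unfold gg
  rw [eval₂_finsetSum]
  refine sum_congr rfl fun i _ => ?_
  rw [eval₂_mul, eval₂_C, eval₂_finsetSum, map_mul, map_pow, map_neg, map_one]
  congr 1
  refine sum_congr rfl fun j _ => ?_
  rw [eval₂_pow, eval₂_X]

variable {ψ l} {d : ℕ}

/-- The evaluation of a polynomial of degree `< d`. -/
theorem eval₂_eq (Q : R[X]) (hQ : Q.natDegree < d) :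
    Q.eval₂ ψ l = ∑ i : Fin d, ψ (Q.coeff i) * l ^ (i : ℕ) := by
  rw [eval₂_eq_sum_range' ψ hQ, ← Fin.sum_univ_eq_sum_range (fun i => ψ (Q.coeff i) * l ^ i)]

theorem eq_zero_of_eval₂ (hinj : Function.Injective (fun a : Fin d → R => ∑ i : Fin d, ψ (a i) * l ^ (i : ℕ)))
    (Q : R[X]) (hQ : Q.natDegree < d) (h : Q.eval₂ ψ l = 0) : Q = 0 := by
  rw [eval₂_eq Q hQ] at h
  have h1 : (fun i : Fin d => Q.coeff i) = fun _ => 0 := by
    apply hinj
    simp only [map_zero, zero_mul, sum_const_zero]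
    exact h
  ext n
  rw [coeff_zero]
  by_cases hn : n < d
  · exact congrFun h1 ⟨n, hn⟩
  · exact coeff_eq_zero_of_natDegree_lt (by omega)

theorem exists_poly (hsurj : Function.Surjective (fun a : Fin d → R => ∑ i : Fin d, ψ (a i) * l ^ (i : ℕ)))
    (hd : 1 ≤ d) (z : K) : ∃ Z : R[X], Z.natDegree < d ∧ Z.eval₂ ψ l = z := by
  obtain ⟨a, ha⟩ := hsurj z
  refine ⟨∑ i : Fin d, C (a i) * X ^ (i : ℕ), ?_, ?_⟩
  · have : (∑ i : Fin d, C (a i) * X ^ (i : ℕ)).natDegree ≤ d - 1 := by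
      refine natDegree_sum_le_of_forall_le _ _ fun i _ => ?_
      refine (natDegree_C_mul_le _ _).trans ?_
      exact (natDegree_X_pow_le _).trans (by have := i.2; omega)
    omega
  · rw [eval₂_finsetSum, ← ha]
    refine sum_congr rfl fun i _ => ?_
    simp

/-- `x g(ℓ) = 0` implies `x = 0`. -/
theorem eq_zero_of_mul_gg (hinj : Function.Injective (fun a : Fin d → R => ∑ i : Fin d, ψ (a i) * l ^ (i : ℕ)))
    (hd : 1 ≤ d) (a : ℕ → R) (ha : a 0 = 1) (x : R) (h : ψ x * (gg a d).eval₂ ψ l = 0) : x = 0 := by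
  have h1 : (C x * gg a d).eval₂ ψ l = 0 := by rw [eval₂_mul, eval₂_C, h]
  have h2 := eq_zero_of_eval₂ hinj (C x * gg a d)
    (lt_of_le_of_lt (natDegree_C_mul_le _ _) (natDegree_gg_lt a d hd)) h1
  have h3 := congrArg (fun Q : R[X] => Q.coeff (d - 1)) h2
  simpa [coeff_gg_top a ha d hd] using h3

/-- `(1 - ℓ) z ∈ R` implies `z ∈ R g(ℓ)`. -/
theorem exists_eq_mul_gg (hbij : Function.Bijective (fun a : Fin d → R => ∑ i : Fin d, ψ (a i) * l ^ (i : ℕ)))
    (hd : 1 ≤ d) (a : ℕ → R) (ha : a 0 = 1) (hrel : (pp a d).eval₂ ψ l = 0) (z : K) (r : R)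
    (h : (1 - l) * z = ψ r) :
    ∃ w : R, z = ψ w * (gg a d).eval₂ ψ l ∧ r = w * pone a d := by
  obtain ⟨Z, hZ, rfl⟩ := exists_poly hbij.2 hd z
  let W : R := Z.coeff (d - 1)
  have hmon := monic_pp a ha d
  -- the polynomial `(1 - T) Z - r + W p` has degree `< d` and vanishes at `ℓ`
  have hdeg : ((1 - X) * Z - C r + C W * pp a d).natDegree < d := by
    have hle : ((1 - X) * Z - C r + C W * pp a d).natDegree ≤ d := by
      refine natDegree_add_le_of_degree_le ((natDegree_sub_le _ _).trans (max_le ?_ ?_)) ?_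
      · refine natDegree_mul_le.trans ?_
        have : (1 - X : R[X]).natDegree ≤ 1 :=
          (natDegree_sub_le _ _).trans (max_le (natDegree_one.le.trans (Nat.zero_le _)) natDegree_X_le)
        omega
      · rw [natDegree_C]
        exact Nat.zero_le _
      · exact (natDegree_C_mul_le _ _).trans (natDegree_pp_le a d)
    refine lt_of_le_of_ne hle fun heq => ?_
    have hc : ((1 - X) * Z - C r + C W * pp a d).coeff d = 0 := by
      obtain ⟨e, rfl⟩ : ∃ e, d = e + 1 := ⟨d - 1, by omega⟩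
      have hZe : Z.coeff (e + 1) = 0 := coeff_eq_zero_of_natDegree_lt hZ
      rw [coeff_add, coeff_sub, coeff_C_mul, coeff_pp_top a ha, coeff_C_succ, sub_mul, one_mul, coeff_sub,
        coeff_X_mul, hZe]
      simp [W]
    have h0 : (1 - X) * Z - C r + C W * pp a d = 0 := by
      apply leadingCoeff_eq_zero.1
      rw [leadingCoeff, heq, hc]
    rw [h0, natDegree_zero] at heq
    omega
  have hev : ((1 - X) * Z - C r + C W * pp a d).eval₂ ψ l = 0 := by
    rw [eval₂_add, eval₂_sub, eval₂_mul, eval₂_mul, hrel, mul_zero, add_zero, eval₂_sub, eval₂_one, eval₂_X,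
      eval₂_C, h, sub_self]
  have h0 := eq_zero_of_eval₂ hbij.1 _ hdeg hev
  have h1 : r = W * pone a d := by
    have := congrArg (Polynomial.eval 1) h0
    simp only [eval_add, eval_sub, eval_mul, eval_one, eval_X, sub_self, zero_mul, eval_C, eval_one_pp,
      eval_zero] at this
    linear_combination -this
  refine ⟨W, ?_, h1⟩
  have h2 : (Z - C W * gg a d) * (X - 1) = 0 := by
    have h3 := gg_mul a d
    have h5 : C r = C W * C (pone a d) := by rw [← C_mul, ← h1]
    rw [sub_mul, mul_assoc, h3, mul_sub (C W), ← h5]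
    linear_combination -h0
  have h4 : Z = C W * gg a d := by
    have hm : (X - 1 : R[X]).Monic := by
      have := monic_X_sub_C (1 : R)
      rwa [C_1] at this
    exact sub_eq_zero.1 ((hm.mul_left_eq_zero_iff).1 h2)
  conv_lhs => rw [h4]
  rw [eval₂_mul, eval₂_C]

end Poly

section Lambda

variable {K : Type v} [CommRing K] [LambdaOps K]

/-- `λ^{i+1}(x + ℓ) = λ^{i+1}(x) + λ^i(x) ℓ` when `λ^i(ℓ) = 0` for `i ≥ 2`. -/
theorem lam_succ_add_line (x l : K) (hl : ∀ i : ℕ, 2 ≤ i → LambdaOps.lam i l = 0) (i : ℕ) :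
    LambdaOps.lam (i + 1) (x + l) = LambdaOps.lam (i + 1) x + LambdaOps.lam i x * l := by
  rw [LambdaOps.lam_add, sum_range_succ, sum_range_succ, Finset.sum_eq_zero, zero_add, Nat.sub_self,
    LambdaOps.lam_zero, mul_one, add_comm]
  · congr 1
    have : i + 1 - i = 1 := by omega
    rw [this, LambdaOps.lam_one]
  · intro j hj
    rw [mem_range] at hj
    rw [hl _ (by omega), mul_zero]

theorem lam_succ_sub_line (x l : K) (hl : ∀ i : ℕ, 2 ≤ i → LambdaOps.lam i l = 0) (i : ℕ) :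
    LambdaOps.lam (i + 1) (x - l) = LambdaOps.lam (i + 1) x - LambdaOps.lam i (x - l) * l := by
  have := lam_succ_add_line (x - l) l hl i
  rw [sub_add_cancel] at this
  rw [this]
  ring

theorem neg_one_pow_mul_lam_sub_line (x l : K) (hl : ∀ i : ℕ, 2 ≤ i → LambdaOps.lam i l = 0) (n : ℕ) :
    (-1 : K) ^ n * LambdaOps.lam n (x - l) =
      ∑ i ∈ range (n + 1), (-1 : K) ^ i * LambdaOps.lam i x * l ^ (n - i) := by
  induction n with
  | zero => simp [LambdaOps.lam_zero]
  | succ n ih =>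
    rw [lam_succ_sub_line x l hl, sum_range_succ, Nat.sub_self, pow_zero, mul_one]
    have h1 : ∑ i ∈ range (n + 1), (-1 : K) ^ i * LambdaOps.lam i x * l ^ (n + 1 - i) =
        (∑ i ∈ range (n + 1), (-1 : K) ^ i * LambdaOps.lam i x * l ^ (n - i)) * l := by
      rw [sum_mul]
      refine sum_congr rfl fun i hi => ?_
      rw [mem_range] at hi
      have : n + 1 - i = (n - i) + 1 := by omega
      rw [this, pow_succ]
      ring
    rw [h1, ← ih, pow_succ]
    ring

/-- `Σ_{i < n} (-1)^i λ^i(x - ℓ)` -/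
theorem sum_lam_sub_line (x l : K) (hl : ∀ i : ℕ, 2 ≤ i → LambdaOps.lam i l = 0) (n : ℕ) :
    ∑ i ∈ range n, (-1 : K) ^ i * LambdaOps.lam i (x - l) =
      ∑ i ∈ range n, (-1 : K) ^ i * LambdaOps.lam i x * ∑ j ∈ range (n - i), l ^ j := by
  induction n with
  | zero => simp
  | succ n ih =>
    rw [sum_range_succ, ih, neg_one_pow_mul_lam_sub_line x l hl n,
      sum_range_succ (f := fun i => (-1 : K) ^ i * LambdaOps.lam i x * l ^ (n - i)),
      sum_range_succ (f := fun i => (-1 : K) ^ i * LambdaOps.lam i x * ∑ j ∈ range (n + 1 - i), l ^ j),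
      ← add_assoc, ← sum_add_distrib]
    congr 1
    · refine sum_congr rfl fun i hi => ?_
      rw [mem_range] at hi
      have : n + 1 - i = (n - i) + 1 := by omega
      rw [this, sum_range_succ, mul_add]
    · simp

end Lambda

end Groth.Agent.Krr.H472.Alg
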