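import Groth.Prelude.Def_KRR
import Groth.Agent.Krr.H472.Alg

/-!
# Algebra of `K(X₁) = K(X)[ℓ]/(p_c)` in terms of `KRR.lamAlt`
-/

set_option autoImplicit false
universe v

open Polynomial Finset LambdaRing

namespace Groth.Agent.Krr.H472.AlgKRR

variable {R K : Type v} [CommRing R] [LambdaOps R] [CommRing K] [LambdaOps K]
  (P₁ : PosStructure K) (ψ : R →+* K) (c : R) (l : K) (d : ℕ)

/-- `λ_{-1}(ψ c - ℓ)` is the value at `ℓ` of `(p_c(T) - p_c(1))/(T - 1)`. -/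
theorem lamAlt_eq (hd : 1 ≤ d) (haug : P₁.aug (ψ c - l) = (d : ℤ) - 1)
    (hl : ∀ i : ℕ, 2 ≤ i → LambdaOps.lam i l = 0)
    (hlam : ∀ i : ℕ, ψ (LambdaOps.lam i c) = LambdaOps.lam i (ψ c)) :
    KRR.lamAlt P₁ (ψ c - l) = (Alg.gg (fun i => LambdaOps.lam i c) d).eval₂ ψ l := by
  unfold KRR.lamAlt
  have h1 : (P₁.aug (ψ c - l)).toNat + 1 = d := by
    rw [haug]
    omega
  rw [h1, Alg.sum_lam_sub_line (ψ c) l hl d, Alg.eval₂_gg]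
  refine sum_congr rfl fun i _ => ?_
  rw [hlam]

variable {P₁ ψ c l d}

/-- Injectivity of `x ↦ λ_{-1}(e) ψ x`. -/
theorem eq_zero_of_lamAlt_mul (hd : 1 ≤ d) (haug : P₁.aug (ψ c - l) = (d : ℤ) - 1)
    (hl : ∀ i : ℕ, 2 ≤ i → LambdaOps.lam i l = 0)
    (hlam : ∀ i : ℕ, ψ (LambdaOps.lam i c) = LambdaOps.lam i (ψ c))
    (hinj : Function.Injective (fun a : Fin d → R => ∑ i : Fin d, ψ (a i) * l ^ (i : ℕ)))
    (x : R) (h : KRR.lamAlt P₁ (ψ c - l) * ψ x = 0) : x = 0 := by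
  rw [lamAlt_eq P₁ ψ c l d hd haug hl hlam, mul_comm] at h
  exact Alg.eq_zero_of_mul_gg hinj hd _ (LambdaOps.lam_zero c) x h

/-- `(1 - ℓ) λ_{-1}(e) = ψ (Σ_{i ≤ d} (-1)^i λ^i(c))`. -/
theorem one_sub_mul_lamAlt (hd : 1 ≤ d) (haug : P₁.aug (ψ c - l) = (d : ℤ) - 1)
    (hl : ∀ i : ℕ, 2 ≤ i → LambdaOps.lam i l = 0)
    (hlam : ∀ i : ℕ, ψ (LambdaOps.lam i c) = LambdaOps.lam i (ψ c))
    (hrel : ∑ i ∈ range (d + 1), (-1 : K) ^ i * ψ (LambdaOps.lam i c) * l ^ (d - i) = 0) :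
    (1 - l) * KRR.lamAlt P₁ (ψ c - l) = ψ (∑ i ∈ range (d + 1), (-1 : R) ^ i * LambdaOps.lam i c) := by
  rw [lamAlt_eq P₁ ψ c l d hd haug hl hlam]
  have h := congrArg (Polynomial.eval₂ ψ l) (Alg.gg_mul (fun i => LambdaOps.lam i c) d)
  rw [eval₂_mul, eval₂_sub, eval₂_sub, eval₂_X, eval₂_one, eval₂_C, Alg.eval₂_pp, hrel] at h
  have h2 : ∑ i ∈ range (d + 1), (-1 : R) ^ i * LambdaOps.lam i c = Alg.pone (fun i => LambdaOps.lam i c) d := rfl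
  rw [h2]
  linear_combination -h

/-- `(1 - ℓ) z ∈ ψ(R)` implies `z = ψ(w) λ_{-1}(e)` for some `w`. -/
theorem exists_eq_lamAlt_mul (hd : 1 ≤ d) (haug : P₁.aug (ψ c - l) = (d : ℤ) - 1)
    (hl : ∀ i : ℕ, 2 ≤ i → LambdaOps.lam i l = 0)
    (hlam : ∀ i : ℕ, ψ (LambdaOps.lam i c) = LambdaOps.lam i (ψ c))
    (hbij : Function.Bijective (fun a : Fin d → R => ∑ i : Fin d, ψ (a i) * l ^ (i : ℕ)))
    (hrel : ∑ i ∈ range (d + 1), (-1 : K) ^ i * ψ (LambdaOps.lam i c) * l ^ (d - i) = 0)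
    (z : K) (r : R) (h : (1 - l) * z = ψ r) :
    ∃ w : R, z = KRR.lamAlt P₁ (ψ c - l) * ψ w := by
  obtain ⟨w, hw, -⟩ := Alg.exists_eq_mul_gg hbij hd (fun i => LambdaOps.lam i c) (LambdaOps.lam_zero c)
    (by rw [Alg.eval₂_pp]; exact hrel) z r h
  exact ⟨w, by rw [lamAlt_eq P₁ ψ c l d hd haug hl hlam, mul_comm]; exact hw⟩

end Groth.Agent.Krr.H472.AlgKRR
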