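import Groth.Agent.Krr.H472.AlgKRR
import Groth.Agent.Krr.H482.PullFinal

/-!
# Exactness in the middle of the blow-up sequence, from the geometric inputs

Inputs: `v ∘ u = 0` (excess intersection formula), the self-intersection formula for `f₁`, injectivity of `φ^K`, and
the structure of `K(X₁)` over `K(X)`.
-/

set_option autoImplicit false
universe v u

open CategoryTheory CategoryTheory.Limits AlgebraicGeometry Finset LambdaRing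

namespace Groth.Agent.Krr.H472.Assemble

open Groth.Agent.Krr.H482.PullLambda Groth.Agent.Krr.H482.PullFinal

variable {X Y X₁ Y₁ : Scheme.{u}} {f : X ⟶ Y} {φ : Y₁ ⟶ Y} {f₁ : X₁ ⟶ Y₁} {ψ : X₁ ⟶ X}
  {KX : Type v} [CommRing KX] [LambdaRing.LambdaOps KX] {PX : LambdaRing.PosStructure KX} {φX : SGA6.Kvb X →+ KX}
  {KY : Type v} [CommRing KY] [LambdaRing.LambdaOps KY] {PY : LambdaRing.PosStructure KY} {φY : SGA6.Kvb Y →+ KY}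
  {KX₁ : Type v} [CommRing KX₁] [LambdaRing.LambdaOps KX₁] {PX₁ : LambdaRing.PosStructure KX₁}
  {φX₁ : SGA6.Kvb X₁ →+ KX₁}
  {KY₁ : Type v} [CommRing KY₁] [LambdaRing.LambdaOps KY₁] {PY₁ : LambdaRing.PosStructure KY₁}
  {φY₁ : SGA6.Kvb Y₁ →+ KY₁}
  {gφ : KY →+ KY₁} {gψ : KX →+ KX₁} {gf : KX →+ KY} {gf₁ : KX₁ →+ KY₁}

/-- The class of an invertible module is a line element. -/
theorem isLine_cl (hKX₁ : KRR.IsModel X₁ KX₁ PX₁ φX₁) {C₁ : X₁.Modules} (hC₁ : FlatMod.IsFinLocFreeOfRank 1 C₁) :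
    PX₁.IsLine (φX₁ (KRR.cl X₁ C₁)) :=
  ⟨(hKX₁.mem_pos_iff _).2 ⟨1, C₁, le_rfl, hC₁, rfl⟩, by
    rw [hKX₁.aug_cl 1 C₁ hC₁]
    rfl⟩

/-- Exactness in the middle. -/
theorem exact_middle (hKX : KRR.IsModel X KX PX φX) (hKY : KRR.IsModel Y KY PY φY)
    (hKX₁ : KRR.IsModel X₁ KX₁ PX₁ φX₁) (hKY₁ : KRR.IsModel Y₁ KY₁ PY₁ φY₁)
    (hsq : f₁ ≫ φ = ψ ≫ f) (hgφ : KRR.IsPull φ φY φY₁ gφ) (hgψ : KRR.IsPull ψ φX φX₁ gψ)
    (C : X.Modules) (C₁ : X₁.Modules) (d : ℕ) (hd : 1 ≤ d) (hC : FlatMod.IsFinLocFreeOfRank d C)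
    (hC₁ : FlatMod.IsFinLocFreeOfRank 1 C₁)
    (hvu : ∀ x : KX, gφ (gf x) = gf₁ (KRR.lamAlt PX₁ (gψ (φX (KRR.cl X C)) - φX₁ (KRR.cl X₁ C₁)) * gψ x))
    (hself : ∀ s : KY₁ →+ KX₁, KRR.IsPull f₁ φY₁ φX₁ s → ∀ z : KX₁, s (gf₁ z) = (1 - φX₁ (KRR.cl X₁ C₁)) * z)
    (hinj : Function.Injective gφ)
    (hbij : Function.Bijective (fun a : Fin d → KX => ∑ i : Fin d, gψ (a i) * φX₁ (KRR.cl X₁ C₁) ^ (i : ℕ)))
    (hrel : ∑ i ∈ Finset.range (d + 1), (-1 : KX₁) ^ i * gψ (LambdaRing.LambdaOps.lam i (φX (KRR.cl X C))) *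
      φX₁ (KRR.cl X₁ C₁) ^ (d - i) = 0) :
    (∀ x : KX, gf₁ (-(KRR.lamAlt PX₁ (gψ (φX (KRR.cl X C)) - φX₁ (KRR.cl X₁ C₁)) * gψ x)) + gφ (gf x) = 0) ∧
    ∀ (x₁ : KX₁) (y : KY), gf₁ x₁ + gφ y = 0 →
      ∃ x : KX, -(KRR.lamAlt PX₁ (gψ (φX (KRR.cl X C)) - φX₁ (KRR.cl X₁ C₁)) * gψ x) = x₁ ∧ gf x = y := by
  have hline := isLine_cl hKX₁ hC₁
  have hl : ∀ i : ℕ, 2 ≤ i → LambdaRing.LambdaOps.lam i (φX₁ (KRR.cl X₁ C₁)) = 0 := fun i hi =>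
    PX₁.lam_eq_zero _ hline.1 i (by rw [hline.2]; omega)
  have haug : PX₁.aug (pullRingHom hKX₁ hKX hgψ (φX (KRR.cl X C)) - φX₁ (KRR.cl X₁ C₁)) = (d : ℤ) - 1 := by
    rw [pullRingHom_apply, map_sub, pull_aug hKX₁ hKX hgψ, hKX.aug_cl d C hC, hline.2]
  have hlam : ∀ i : ℕ, pullRingHom hKX₁ hKX hgψ (LambdaRing.LambdaOps.lam i (φX (KRR.cl X C))) =
      LambdaRing.LambdaOps.lam i (pullRingHom hKX₁ hKX hgψ (φX (KRR.cl X C))) := fun i =>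
    pull_lam hKX₁ hKX hgψ i _
  refine ⟨fun x => ?_, fun x₁ y h => ?_⟩
  · rw [map_neg, hvu, neg_add_cancel]
  · obtain ⟨s, hs⟩ := exists_isPull f₁ hKY₁.bijective φX₁
    obtain ⟨fs, hfs⟩ := exists_isPull f hKY.bijective φX
    have h1 : ∀ t : KY, s (gφ t) = gψ (fs t) := fun t => by
      have e := isPull_unique hKY (isPull_congr hsq (isPull_comp hs hgφ)) (isPull_comp hgψ hfs)
      exact DFunLike.congr_fun e t
    have h2 : (1 - φX₁ (KRR.cl X₁ C₁)) * (-x₁) = pullRingHom hKX₁ hKX hgψ (fs y) := by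
      have h3 := congrArg s h
      rw [map_add, map_zero, hself s hs, h1] at h3
      rw [pullRingHom_apply, mul_neg]
      exact neg_eq_of_add_eq_zero_right h3
    obtain ⟨w, hw⟩ := AlgKRR.exists_eq_lamAlt_mul (P₁ := PX₁) (ψ := pullRingHom hKX₁ hKX hgψ)
      (c := φX (KRR.cl X C)) hd haug hl hlam hbij hrel (-x₁) (fs y) h2
    rw [pullRingHom_apply, pullRingHom_apply] at hw
    refine ⟨w, by rw [← hw, neg_neg], ?_⟩
    apply hinj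
    rw [hvu, ← hw, map_neg]
    exact neg_eq_of_add_eq_zero_right h

end Groth.Agent.Krr.H472.Assemble
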