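import Groth.Prelude.Def_KRR
import Groth.Agent.Sga67.BlowAmple
import Groth.Agent.Flat2C.BlowProper
import Groth.Agent.Krr.H452.QProjPn

/-!
# Geometry of the blow-up square used for the K-theory sequence
-/

set_option autoImplicit false
universe u

open CategoryTheory CategoryTheory.Limits AlgebraicGeometry

namespace Groth.Agent.Krr.H472.BlowGeom

variable {X Y X₁ Y₁ S : Scheme.{u}}

theorem isFiniteTypeIdeal [IsLocallyNoetherian Y] (J : Y.IdealSheafData) :
    BlowUp.IsFiniteTypeIdeal J := fun U => by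
  have := IsLocallyNoetherian.component_noetherian U
  exact IsNoetherian.noetherian _

theorem isProper_blowUp [IsLocallyNoetherian Y] {J : Y.IdealSheafData} {φ : Y₁ ⟶ Y}
    (hφ : BlowUp.IsBlowUp φ J) : IsProper φ :=
  Groth.Agent.Flat2C.BlowProper.isProper_of_isBlowUp hφ (isFiniteTypeIdeal J)

theorem isNoetherian_blowUp [IsNoetherian Y] {J : Y.IdealSheafData} {φ : Y₁ ⟶ Y}
    (hφ : BlowUp.IsBlowUp φ J) : IsNoetherian Y₁ := by
  have h1 := isProper_blowUp hφ
  have h2 : IsLocallyNoetherian Y₁ := LocallyOfFiniteType.isLocallyNoetherian φ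
  have h3 : CompactSpace Y₁ := QuasiCompact.compactSpace_of_compactSpace φ
  exact { }

theorem isNoetherian_of_closed [IsNoetherian Y] (f : X ⟶ Y) [IsClosedImmersion f] : IsNoetherian X := by
  have h2 : IsLocallyNoetherian X := LocallyOfFiniteType.isLocallyNoetherian f
  have h3 : CompactSpace X := QuasiCompact.compactSpace_of_compactSpace f
  exact { }

/-- The blow-up of a quasi-projective scheme over an affine scheme is quasi-projective. -/
theorem isQProjOver_blowUp [IsAffine S] [IsNoetherian Y] {qY : Y ⟶ S} (hqY : KRR.IsQProjOver qY)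
    {J : Y.IdealSheafData} {φ : Y₁ ⟶ Y} (hφ : BlowUp.IsBlowUp φ J) : KRR.IsQProjOver (φ ≫ qY) := by
  have h1 := isProper_blowUp hφ
  obtain ⟨L, hL⟩ := Groth.Agent.Krr.H473.QProj.exists_isAmple hqY
  have := Groth.Agent.Krr.H473.QProj.locallyOfFiniteType hqY
  have := Groth.Agent.Krr.H473.QProj.quasiCompact hqY
  exact Groth.Agent.Krr.H452.QProjPn.isQProjOver_of_isAmple _
    (Groth.Agent.Sga67.BlowAmple.exists_isAmple hφ L hL)

/-- An immersion into a quasi-projective scheme. -/
theorem isQProjOver_of_isImmersion {qY : Y ⟶ S} (hqY : KRR.IsQProjOver qY) (i : X ⟶ Y) [IsImmersion i] :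
    KRR.IsQProjOver (i ≫ qY) := by
  obtain ⟨n, j, hj, h⟩ := hqY
  exact ⟨n, i ≫ j, inferInstance, by rw [Category.assoc, h]⟩

end Groth.Agent.Krr.H472.BlowGeom
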