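import Groth.Agent.Krr.H472.PullInj
import Groth.Agent.Ega4B.RpushCompare
import Groth.Agent.PerfB.StructFlat
import Groth.Agent.Ega3B.Devissage
import Groth.Agent.Ega3B.PullTensor
import Groth.Agent.Sga67.KvbRing

/-!
# `Rφ_*` of a blow-up of a regular scheme: preserves perfect complexes, `Rφ_* O = O`
-/

set_option autoImplicit false

universe u

open CategoryTheory CategoryTheory.Limits AlgebraicGeometry Pretriangulated

attribute [local instance] HasDerivedCategory.standard

namespace Groth.Agent.Krr.H472.BlowPush

open Groth.Agent.Dcoh.DerSch Groth.Agent.Krr.H467.DerPush Groth.Agent.Krr.H496.PullK0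

variable {X Y : Scheme.{u}}

attribute [local instance] hasRpush

/-- A closed subset is proper over the target of a proper morphism. -/
theorem isProperOver_of_isProper (f : X ⟶ Y) [IsProper f] {Z : Set X} (hZ : IsClosed Z) :
    ClSub.IsProperOver f Z := ⟨hZ, inferInstance⟩

/-- A proper morphism to a regular Noetherian scheme preserves perfect complexes. -/
theorem pushPerf_of_regular (f : X ⟶ Y) [IsProper f] [IsNoetherian X] [IsNoetherian Y]
    (hreg : ∀ y : Y, IsRegularLocalRing (Y.presheaf.stalk y)) : PushPerf f := by
  intro K hK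
  obtain ⟨hcoh, a, b, ha, hb⟩ := Groth.Agent.S1006.result X K hK
  obtain ⟨h1, h2, b', h3⟩ := Groth.Agent.S1001.result f K a b hcoh (fun i =>
    isProperOver_of_isProper f (Groth.Agent.Ega3B.Devissage.isClosed_support (hcoh i)))
  exact Groth.Agent.S1005.result Y hreg _ a b' h1

/-- `Rf_* O_X = O_Y` from the vanishing of the higher direct images and the unit isomorphism. -/
theorem nonempty_rpush_structure (f : X ⟶ Y)
    (h1 : IsIso ((Scheme.Modules.pullbackPushforwardAdjunction f).unit.app (Coh.structureModule Y)))
    (h2 : ∀ i : ℕ, 1 ≤ i → IsZero ((Coh.RpushAb f i).obj (Coh.toAb (Coh.structureModule X)))) :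
    Nonempty ((DCoh.Rpush f).obj (DCoh.inD X (Coh.structureModule X)) ≅
      DCoh.inD Y (Coh.structureModule Y)) := by
  have hI : HasInjectiveResolutions X.Modules := inferInstance
  obtain ⟨e⟩ := Groth.Agent.PerfB.FibreZero.nonempty_Rpush_inD f (Coh.structureModule X)
    (fun i hi => (Groth.Agent.Ega4B.RpushCompare.isZero_rpush_iff f _ i).2 (h2 i hi))
  obtain ⟨u⟩ : Nonempty ((Scheme.Modules.pullback f).obj (Coh.structureModule Y) ≅ Coh.structureModule X) :=
    Groth.Agent.Ega3B.PullTensor.nonempty_pullUnitIso f
  exact ⟨e ≪≫ (DerivedCategory.singleFunctor Y.Modules 0).mapIso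
    ((Scheme.Modules.pushforward f).mapIso u.symm ≪≫
      (asIso ((Scheme.Modules.pullbackPushforwardAdjunction f).unit.app (Coh.structureModule Y))).symm)⟩

/-- Injectivity of `φ^K` for the blow-up of a regular scheme with the resolution property, given the computation of
the direct images of the structure sheaf. -/
theorem pullK0_injective_of (f : X ⟶ Y) [IsProper f] [IsNoetherian X] [IsNoetherian Y]
    (hreg : ∀ y : Y, IsRegularLocalRing (Y.presheaf.stalk y)) (hY : PerfAux.HasResolutionProperty Y)
    (h1 : IsIso ((Scheme.Modules.pullbackPushforwardAdjunction f).unit.app (Coh.structureModule Y)))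
    (h2 : ∀ i : ℕ, 1 ≤ i → IsZero ((Coh.RpushAb f i).obj (Coh.toAb (Coh.structureModule X)))) :
    Function.Injective (pullK0 f) :=
  PullInj.pullK0_injective hY f (pushPerf_of_regular f hreg) (nonempty_rpush_structure f h1 h2)

end Groth.Agent.Krr.H472.BlowPush
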