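import Groth.Agent.Krr.H467.DerPush
import Groth.Agent.Krr.H496.PullK0
import Groth.Agent.PerfB.FibreZero
import Groth.Agent.PerfB.StructFlat
import Groth.Agent.Cohder.RelPCMon
import Groth.Agent.S0961
import Groth.Agent.S1001
import Groth.Agent.S1005
import Groth.Agent.S1006
import Groth.Agent.S1028

/-!
# Injectivity of `f^K : K(Y) → K(X)` when `Rf_* O_X = O_Y`
-/

set_option autoImplicit false

universe u

open CategoryTheory CategoryTheory.Limits AlgebraicGeometry Pretriangulated

attribute [local instance] HasDerivedCategory.standard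

namespace Groth.Agent.Krr.H472.PullInj

open Groth.Agent.Dcoh.DerSch Groth.Agent.Dcoh.DerPull Groth.Agent.PerfA.PerfLocal
open Groth.Agent.Krr.H467.DerPush Groth.Agent.Krr.H496.PullK0

variable {X Y : Scheme.{u}}

attribute [local instance] hasRpush

/-- `Rf_* f^* E = E` for `E` finite locally free when `Rf_* O_X = O_Y`. -/
theorem nonempty_rpush_pullback (f : X ⟶ Y)
    (h : Nonempty ((DCoh.Rpush f).obj (DCoh.inD X (Coh.structureModule X)) ≅
      DCoh.inD Y (Coh.structureModule Y))) (E : Y.Modules) (hE : FlatMod.IsFinLocFree E) :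
    Nonempty ((DCoh.Rpush f).obj (DCoh.inD X ((Scheme.Modules.pullback f).obj E)) ≅ DCoh.inD Y E) := by
  obtain ⟨e⟩ := h
  let P : CochainComplex Y.Modules ℤ := Groth.Agent.Cohder.RelPCMon.sgl E
  have hP : DCoh.IsKFlat P := Groth.Agent.Dcoh.KFlatMod.isKFlat_single _
    (Groth.Agent.Dcoh.Spread.isFlat_of_isFinLocFree hE) 0
  let eP : DerivedCategory.Q.obj P ≅ DCoh.inD Y E :=
    (((DerivedCategory.singleFunctorIsoCompQ Y.Modules 0).app E)).symm
  have hperf : DCoh.IsPerfect (DerivedCategory.Q.obj P) :=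
    isPerfect_of_iso eP.symm (isPerfect_inD_of_isFinLocFree hE)
  have i1 := Groth.Agent.Dcoh.ModTens.hasLTensorCx P
  have i2 := Groth.Agent.Dcoh.ModTens.hasLTensorCx
    (((Scheme.Modules.pullback f).mapHomologicalComplex (ComplexShape.up ℤ)).obj P)
  obtain ⟨e1⟩ := Groth.Agent.S0961.result f P hP hperf (DCoh.inD X (Coh.structureModule X))
  obtain ⟨e2⟩ := Groth.Agent.Cohder.RelPCMon.nonempty_unit P
  obtain ⟨e3⟩ := Groth.Agent.Cohder.RelPCMon.nonempty_unit
    (((Scheme.Modules.pullback f).mapHomologicalComplex (ComplexShape.up ℤ)).obj P)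
  let e4 : (((Scheme.Modules.pullback f).mapHomologicalComplex (ComplexShape.up ℤ)).obj P) ≅
      Groth.Agent.Cohder.RelPCMon.sgl ((Scheme.Modules.pullback f).obj E) :=
    (HomologicalComplex.singleMapHomologicalComplex (Scheme.Modules.pullback f) (ComplexShape.up ℤ) 0).app E
  let e5 : DerivedCategory.Q.obj (((Scheme.Modules.pullback f).mapHomologicalComplex (ComplexShape.up ℤ)).obj P) ≅
      DCoh.inD X ((Scheme.Modules.pullback f).obj E) :=
    DerivedCategory.Q.mapIso e4 ≪≫
      ((DerivedCategory.singleFunctorIsoCompQ X.Modules 0).app ((Scheme.Modules.pullback f).obj E)).symm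
  exact ⟨(DCoh.Rpush f).mapIso (e5.symm ≪≫ e3.symm) ≪≫ e1.symm ≪≫
    (DCoh.LTensorCx P).mapIso e ≪≫ e2 ≪≫ eP⟩

/-- `f^K` is injective when `Rf_* O_X = O_Y` and `Rf_*` preserves perfect complexes. -/
theorem pullK0_injective [IsNoetherian Y] (hY : PerfAux.HasResolutionProperty Y) (f : X ⟶ Y)
    (hf : PushPerf f)
    (h : Nonempty ((DCoh.Rpush f).obj (DCoh.inD X (Coh.structureModule X)) ≅
      DCoh.inD Y (Coh.structureModule Y))) : Function.Injective (pullK0 f) := by
  obtain ⟨φ, hφ⟩ := Groth.Agent.S1028.result Y hY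
  have key : ((pushK f hf).comp (rho X)).comp (pullK0 f) = φ.toAddMonoidHom := by
    refine Groth.Agent.Sga67.K0Basic.hom_ext_sub fun E hE => ?_
    have hE' := Groth.Agent.PerfB.FlatPull.isFinLocFree_pullback f hE
    obtain ⟨e⟩ := nonempty_rpush_pullback f h E hE
    have h1 : φ (cl E) = KZero.clTr (SGA6.perfP Y) (DCoh.inD Y E) := hφ E hE
    change pushK f hf (rho X (pullK0 f (cl E))) = φ (cl E)
    rw [pullK0_cl f hE, rho_cl _ hE', pushK_clTr f hf (isPerfect_inD_of_isFinLocFree hE'), h1]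
    exact clTr_iso e
  intro x y hxy
  apply φ.injective
  have h1 := congrArg (pushK f hf) (congrArg (rho X) hxy)
  have h2 := DFunLike.congr_fun key x
  have h3 := DFunLike.congr_fun key y
  exact h2.symm.trans (h1.trans h3)

end Groth.Agent.Krr.H472.PullInj
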