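import Groth.Agent.Krr.H496.PullK0
import Groth.Agent.Krr.H482.PullLambda

/-!
# The pull-back on models and `pullK0`
-/

set_option autoImplicit false
universe v w u

open CategoryTheory CategoryTheory.Limits AlgebraicGeometry

namespace Groth.Agent.Krr.H472.PullModel

open Groth.Agent.Krr.H496.PullK0

variable {X Y : Scheme.{u}} {f : X ⟶ Y} {KX : Type v} {KY : Type w} [CommRing KX] [CommRing KY]
  {φX : SGA6.Kvb X →+ KX} {φY : SGA6.Kvb Y →+ KY} {g : KY →+ KX}

theorem isPull_apply (hg : KRR.IsPull f φY φX g) (x : SGA6.Kvb Y) : g (φY x) = φX (pullK0 f x) := by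
  have e : g.comp φY = φX.comp (pullK0 f) := by
    refine Groth.Agent.Sga67.K0Basic.hom_ext_sub fun E hE => ?_
    exact (hg E hE).trans (congrArg φX (pullK0_cl f hE).symm)
  exact DFunLike.congr_fun e x

/-- Injectivity of the pull-back on models. -/
theorem injective_of_pullK0 (hφY : Function.Bijective φY) (hφX : Function.Bijective φX)
    (hg : KRR.IsPull f φY φX g) (h : Function.Injective (pullK0 f)) : Function.Injective g := by
  intro a b hab
  obtain ⟨x, rfl⟩ := hφY.2 a
  obtain ⟨y, rfl⟩ := hφY.2 b
  rw [isPull_apply hg, isPull_apply hg] at hab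
  rw [h (hφX.1 hab)]

end Groth.Agent.Krr.H472.PullModel
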