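import Groth.Agent.Krr.H478.SectSmooth
import Groth.Agent.Krr.H450.IsoCase
import Groth.Agent.Krr.H498.PushCl

/-!
# The self-intersection formula for a divisor from the excess intersection formula

* `isFinLocFreeOfRank_conormal_id`, `isRegularClosedImmersion_id`: the identity is a regular closed immersion of
  codimension `0`.
* `isPushCl_id`: the identity is the push-forward along the identity.
* `lamAlt_line`: `λ₋₁(ℓ) = 1 - ℓ` for a line element.
* `self_of_excess`: the self-intersection formula for `f` regular of codimension one, from the excess intersection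
  formula applied to the square with `𝟙`, `𝟙`, `f`, `f`.
-/

set_option autoImplicit false
universe v w u

open CategoryTheory CategoryTheory.Limits AlgebraicGeometry

namespace Groth.Agent.Krr.H472.SelfInt

open Groth.Agent.Krr.H482.PullLambda

variable {X Y : Scheme.{u}}

theorem isFinLocFreeOfRank_conormal_id (X : Scheme.{u}) : FlatMod.IsFinLocFreeOfRank 0 (Omega.conormal (𝟙 X)) :=
  Krr.H478.SectSmooth.isFinLocFreeOfRank_conormal 0 (𝟙 X) (𝟙 X) (Category.comp_id _)

theorem isRegularClosedImmersion_id (X : Scheme.{u}) : Mor2.IsRegularClosedImmersion (𝟙 X) :=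
  Krr.H478.SectSmooth.isRegularClosedImmersion 0 (𝟙 X) (𝟙 X) (Category.comp_id _)

theorem cl_conormal_id (X : Scheme.{u}) : KRR.cl X (Omega.conormal (𝟙 X)) = 0 :=
  Krr.H450.IsoCase.cl_isZero (Krr.H495.Rank.isZero_of_rank_zero (isFinLocFreeOfRank_conormal_id X))

variable {KX : Type v} [CommRing KX] [LambdaRing.LambdaOps KX] {PX : LambdaRing.PosStructure KX} {φX : SGA6.Kvb X →+ KX}

theorem isPull_id_id : KRR.IsPull (𝟙 X) φX φX (AddMonoidHom.id KX) :=
  isPull_id fun _ _ => rfl

/-- The push-forward along the identity is the identity. -/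
theorem isPushCl_id [IsNoetherian X] (hX : KRR.HasEnoughLocFree X) (hKX : KRR.IsModel X KX PX φX) :
    KRR.IsPushCl (𝟙 X) φX φX (AddMonoidHom.id KX) := by
  obtain ⟨h, hh, -⟩ := Krr.H498.PushCl.existsUnique_isPushCl (𝟙 X) hX φX φX
    (Krr.H498.PushCl.goodPush_of_regular (𝟙 X) hX (isRegularClosedImmersion_id X)) hKX.bijective
  have h1 : KRR.IsPull (inv (𝟙 X)) φX φX h := Krr.H450.IsoCase.isPull_inv (𝟙 X) hh
  have h2 : h = AddMonoidHom.id KX := isPull_unique hKX (isPull_congr IsIso.inv_id h1) isPull_id_id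
  rwa [h2] at hh

/-- `λ₋₁(ℓ) = 1 - ℓ` for a line element. -/
theorem lamAlt_line {l : KX} (hl : PX.IsLine l) : KRR.lamAlt PX l = 1 - l := by
  have h1 : PX.aug l = 1 := hl.2
  rw [KRR.lamAlt, h1]
  change ∑ i ∈ Finset.range 2, (-1 : KX) ^ i * LambdaRing.LambdaOps.lam i l = 1 - l
  rw [Finset.sum_range_succ, Finset.sum_range_one, LambdaRing.LambdaOps.lam_zero, LambdaRing.LambdaOps.lam_one]
  ring

variable {KY : Type v} [CommRing KY] [LambdaRing.LambdaOps KY] {PY : LambdaRing.PosStructure KY}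
  {φY : SGA6.Kvb Y →+ KY}

/-- The self-intersection formula in codimension one, from the excess intersection formula for the square
`𝟙`, `𝟙`, `f`, `f`. -/
theorem self_of_excess [IsNoetherian X] (hX : KRR.HasEnoughLocFree X) (hKX : KRR.IsModel X KX PX φX) (f : X ⟶ Y)
    (hC : FlatMod.IsFinLocFreeOfRank 1 (Omega.conormal f)) (s : KY →+ KX) (gf : KX →+ KY)
    (hex : ∀ (gψ : KX →+ KX) (_ : KRR.IsPull (𝟙 X) φX φX gψ) (gf' : KX →+ KX) (_ : KRR.IsPushCl (𝟙 X) φX φX gf')
      (x : KX), s (gf x) = gf' (KRR.lamAlt PX (gψ (φX (KRR.cl X (Omega.conormal f))) -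
        φX (KRR.cl X (Omega.conormal (𝟙 X)))) * gψ x)) (z : KX) :
    s (gf z) = (1 - φX (KRR.cl X (Omega.conormal f))) * z := by
  have h := hex (AddMonoidHom.id KX) isPull_id_id (AddMonoidHom.id KX) (isPushCl_id hX hKX) z
  rw [cl_conormal_id, map_zero, sub_zero] at h
  have hl : PX.IsLine (φX (KRR.cl X (Omega.conormal f))) :=
    ⟨(hKX.mem_pos_iff _).2 ⟨1, _, le_rfl, hC, rfl⟩, by rw [hKX.aug_cl 1 _ hC]; rfl⟩
  rw [h]
  change KRR.lamAlt PX (φX (KRR.cl X (Omega.conormal f))) * z = _
  rw [lamAlt_line hl]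

end Groth.Agent.Krr.H472.SelfInt
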